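/-
An odd automorphism of the standard point-block graph, fixing a point and a block.
-/
import Cfsg.Agent.Lib.Spor.PlaneFour.Data
import Mathlib.GroupTheory.Perm.Sign

set_option autoImplicit false
set_option maxRecDepth 20000

namespace CfsgLib.Spor.HSGraph

open Cfsg Finset CfsgLib.Spor CfsgLib.Spor.Search CfsgLib.Spor.Plane

/-- The permutation of the points, with its inverse. -/
def oddPts : List ℕ × List ℕ := ([0, 1, 3, 2, 4, 5, 7, 6, 8, 9, 11, 10, 12, 17, 19, 18, 20, 13, 15, 14, 16, 21], [0, 1, 3, 2, 4, 5, 7, 6, 8, 9, 11, 10, 12, 17, 19, 18, 20, 13, 15, 14, 16, 21])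

/-- The permutation of the blocks. -/
def oddBlks : List ℕ := [0, 1, 2, 3, 32, 33, 24, 25, 36, 37, 44, 45, 52, 53, 48, 49, 16, 28, 20, 40, 18, 30, 22, 42, 6, 7, 26, 54, 17, 29, 21, 41, 4, 5, 34, 50, 8, 9, 38, 46, 19, 31, 23, 43, 10, 11, 39, 47, 14, 15, 35, 51, 12, 13, 27, 55, 56, 57, 58, 76, 60, 68, 64, 72, 62, 70, 66, 74, 61, 69, 65, 73, 63, 71, 67, 75, 59]

/-- Transpositions composing to the permutation of the points. -/
def swapsPts : List (Fin 22 × Fin 22) := [(2, 3), (6, 7), (10, 11), (13, 17), (14, 19), (15, 18), (16, 20)]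

/-- Transpositions composing to the permutation of the blocks. -/
def swapsBlks : List (Fin 77 × Fin 77) := [(4, 32), (5, 33), (6, 24), (7, 25), (8, 36), (9, 37), (10, 44), (11, 45), (12, 52), (13, 53), (14, 48), (15, 49), (17, 28), (18, 20), (19, 40), (21, 30), (23, 42), (27, 54), (31, 41), (35, 50), (39, 46), (59, 76), (61, 68), (62, 64), (63, 72), (65, 70), (67, 74), (71, 73)]

/-- A product of transpositions. -/
def swapProd {n : ℕ} (l : List (Fin n × Fin n)) : Equiv.Perm (Fin n) := (l.map fun q => Equiv.swap q.1 q.2).prod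

theorem sign_swapProd {n : ℕ} (l : List (Fin n × Fin n)) (h : ∀ q ∈ l, q.1 ≠ q.2) :
    Equiv.Perm.sign (swapProd l) = (-1) ^ l.length := by
  rw [swapProd, Equiv.Perm.sign_prod_list_swap, List.length_map]
  intro g hg
  obtain ⟨q, hq, rfl⟩ := List.mem_map.1 hg
  exact ⟨q.1, q.2, h q hq, rfl⟩

theorem odd_check : invPair 22 oddPts = true ∧ (∀ i : Fin 22, oddPts.1.getD i.1 22 = (swapProd swapsPts i).1) ∧
    (∀ j : Fin 77, mapFast oddPts.1 22 (k22.getD j.1 0) = k22.getD (swapProd swapsBlks j).1 0) ∧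
    oddPts.1.getD 0 22 = 0 ∧ swapProd swapsBlks 0 = 0 ∧ k22.length = 77 := by
  decide +kernel

theorem swaps_ne : (∀ q ∈ swapsPts, q.1 ≠ q.2) ∧ (∀ q ∈ swapsBlks, q.1 ≠ q.2) ∧
    Odd (swapsPts.length + swapsBlks.length) := by
  decide +kernel

end CfsgLib.Spor.HSGraph
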