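/-
Every strongly regular graph with parameters (100,22,0,6) comes from an S(3,6,22).
-/
import Cfsg.Agent.Lib.Spor.PlaneFour.Unique
import Cfsg.Agent.Lib.Spor.SteinerGraphSRG
import Mathlib.Combinatorics.SimpleGraph.StronglyRegular
import Mathlib.Combinatorics.SimpleGraph.Maps

set_option autoImplicit false

namespace CfsgLib.Spor.HSGraph

open Cfsg Finset

variable {V : Type*} [Fintype V] [DecidableEq V] {G : SimpleGraph V} [DecidableRel G.Adj]

/-- Neighbours of a base vertex. -/
abbrev Near (G : SimpleGraph V) (x : V) := {v : V // G.Adj x v}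

/-- The remaining vertices. -/
abbrev Far (G : SimpleGraph V) (x : V) := {v : V // v ≠ x ∧ ¬ G.Adj x v}

/-- The block of a far vertex. -/
def blk (x : V) (y : Far G x) : Finset (Near G x) := univ.filter fun p => G.Adj y.1 p.1

theorem card_near (hG : G.IsSRGWith 100 22 0 6) (x : V) : Fintype.card (Near G x) = 22 := by
  rw [Fintype.card_subtype]
  have h := hG.regular x
  rw [← h]
  exact congrArg card (by ext v; simp)

omit [DecidableEq V] in
theorem count_common (x y : V) :
    Fintype.card (G.commonNeighbors x y) = (univ.filter fun v => G.Adj x v ∧ G.Adj y v).card := by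
  classical
  rw [← Set.toFinset_card]
  congr 1
  ext v
  simp [SimpleGraph.mem_commonNeighbors]

theorem no_triangle (hG : G.IsSRGWith 100 22 0 6) {x y z : V} (h1 : G.Adj x y) (h2 : G.Adj x z) : ¬ G.Adj y z := by
  intro h
  have := hG.of_adj x y h1
  rw [count_common, card_eq_zero, filter_eq_empty_iff] at this
  exact this (mem_univ z) ⟨h2, h⟩

theorem card_blk (hG : G.IsSRGWith 100 22 0 6) (x : V) (y : Far G x) : (blk x y).card = 6 := by
  rw [← hG.of_not_adj y.2.1.symm y.2.2, count_common, ← card_map (Function.Embedding.subtype _)]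
  congr 1
  ext v
  simp [blk, and_comm]

theorem card_far_adj (hG : G.IsSRGWith 100 22 0 6) (x : V) (y : Far G x) :
    (univ.filter fun z : Far G x => G.Adj y.1 z.1).card = 16 := by
  have h := hG.regular y.1
  rw [← SimpleGraph.card_neighborFinset_eq_degree] at h
  have e : G.neighborFinset y.1 = (blk x y).map (Function.Embedding.subtype _) ∪
      (univ.filter fun z : Far G x => G.Adj y.1 z.1).map (Function.Embedding.subtype _) := by
    ext v
    simp only [SimpleGraph.mem_neighborFinset, mem_union, mem_map, blk, mem_filter, mem_univ, true_and,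
      Function.Embedding.coe_subtype]
    constructor
    · intro hv
      by_cases hx : G.Adj x v
      · exact Or.inl ⟨⟨v, hx⟩, hv, rfl⟩
      · refine Or.inr ⟨⟨v, ?_, hx⟩, hv, rfl⟩
        rintro rfl
        exact y.2.2 hv.symm
    · rintro (⟨p, hp, rfl⟩ | ⟨z, hz, rfl⟩) <;> assumption
  rw [e, card_union_of_disjoint, card_map, card_map, card_blk hG x y] at h
  · omega
  · simp only [disjoint_left, mem_map, Function.Embedding.coe_subtype]
    rintro v ⟨p, -, rfl⟩ ⟨z, -, e⟩
    exact z.2.2 (e ▸ p.2)

theorem through_one (hG : G.IsSRGWith 100 22 0 6) (x : V) (p : Near G x) :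
    (univ.filter fun z : Far G x => p ∈ blk x z).card = 21 := by
  have h := hG.regular p.1
  rw [← SimpleGraph.card_neighborFinset_eq_degree] at h
  have e : G.neighborFinset p.1 =
      insert x ((univ.filter fun z : Far G x => p ∈ blk x z).map (Function.Embedding.subtype _)) := by
    ext v
    simp only [SimpleGraph.mem_neighborFinset, mem_insert, mem_map, blk, mem_filter, mem_univ, true_and,
      Function.Embedding.coe_subtype]
    constructor
    · intro hv
      by_cases hx : v = x
      · exact Or.inl hx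
      · exact Or.inr ⟨⟨v, hx, fun hxv => no_triangle hG p.2 hxv hv⟩, hv.symm, rfl⟩
    · rintro (rfl | ⟨z, hz, rfl⟩)
      · exact p.2.symm
      · exact hz.symm
  rw [e, card_insert_of_notMem, card_map] at h
  · omega
  · simp only [mem_map, Function.Embedding.coe_subtype]
    rintro ⟨z, -, e⟩
    exact z.2.1 e

theorem through_two (hG : G.IsSRGWith 100 22 0 6) (x : V) {p q : Near G x} (hpq : p ≠ q) :
    (univ.filter fun z : Far G x => p ∈ blk x z ∧ q ∈ blk x z).card = 5 := by
  have h := hG.of_not_adj (fun e => hpq (Subtype.ext e) : p.1 ≠ q.1) (no_triangle hG p.2 q.2)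
  rw [count_common] at h
  have e : (univ.filter fun v => G.Adj p.1 v ∧ G.Adj q.1 v) =
      insert x ((univ.filter fun z : Far G x => p ∈ blk x z ∧ q ∈ blk x z).map (Function.Embedding.subtype _)) := by
    ext v
    simp only [mem_insert, mem_map, blk, mem_filter, mem_univ, true_and, Function.Embedding.coe_subtype]
    constructor
    · rintro ⟨h1, h2⟩
      by_cases hx : v = x
      · exact Or.inl hx
      · exact Or.inr ⟨⟨v, hx, fun hxv => no_triangle hG p.2 hxv h1⟩, ⟨h1.symm, h2.symm⟩, rfl⟩
    · rintro (rfl | ⟨z, ⟨h1, h2⟩, rfl⟩)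
      · exact ⟨p.2.symm, q.2.symm⟩
      · exact ⟨h1.symm, h2.symm⟩
  rw [e, card_insert_of_notMem, card_map] at h
  · omega
  · simp only [mem_map, Function.Embedding.coe_subtype]
    rintro ⟨z, -, e⟩
    exact z.2.1 e

theorem card_far (hG : G.IsSRGWith 100 22 0 6) (x : V) : Fintype.card (Far G x) = 77 := by
  rw [Fintype.card_subtype]
  have h := card_near hG x
  rw [Fintype.card_subtype] at h
  have e : (univ.filter fun v => v ≠ x ∧ ¬ G.Adj x v) = (insert x (univ.filter fun v => G.Adj x v))ᶜ := by
    ext v; simp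
  rw [e, card_compl, card_insert_of_notMem (by simp), h, hG.card]

theorem meet (hG : G.IsSRGWith 100 22 0 6) (x : V) {y z : Far G x} (hne : y ≠ z) :
    (G.Adj y.1 z.1 → Disjoint (blk x y) (blk x z)) ∧ (¬ G.Adj y.1 z.1 → (blk x y ∩ blk x z).card = 2) := by
  refine ⟨fun h => disjoint_left.2 fun p hp hq => ?_, fun hz => ?_⟩
  · simp only [blk, mem_filter, mem_univ, true_and] at hp hq
    exact no_triangle hG hp.symm hq.symm h
  set S := univ.filter fun w : Far G x => w ≠ y ∧ ¬ G.Adj y.1 w.1 with hS
  have hSc : S.card = 60 := by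
    have e : S = (insert y (univ.filter fun w : Far G x => G.Adj y.1 w.1))ᶜ := by
      ext w; simp [hS]
    rw [e, card_compl, card_insert_of_notMem (by simp), card_far_adj hG x y, card_far hG x]
  have hzero : ∀ w : Far G x, w ∉ S → w ≠ y → (blk x y ∩ blk x w).card = 0 := fun w hw hwy => by
    have ha : G.Adj y.1 w.1 := by
      by_contra h
      exact hw (mem_filter.2 ⟨mem_univ _, hwy, h⟩)
    rw [card_eq_zero, ← disjoint_iff_inter_eq_empty]
    exact disjoint_left.2 fun p hp hq => by
      simp only [blk, mem_filter, mem_univ, true_and] at hp hq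
      exact no_triangle hG hp.symm hq.symm ha
  have hsub : ∀ (f : Far G x → ℕ), (∀ w, w ∉ S → w ≠ y → f w = 0) → ∑ w ∈ univ.erase y, f w = ∑ w ∈ S, f w := by
    intro f hf
    refine (sum_subset (fun w hw => mem_erase.2 ⟨(mem_filter.1 hw).2.1, mem_univ _⟩) fun w hw hwS => ?_).symm
    exact hf w hwS (ne_of_mem_erase hw)
  have hblk := card_blk hG x y
  have h1 : ∑ w ∈ S, (blk x y ∩ blk x w).card = 120 := by
    rw [← hsub _ hzero]
    have e : ∀ w, (blk x y ∩ blk x w).card = ∑ p ∈ blk x y, if p ∈ blk x w then 1 else 0 := fun w => by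
      rw [← card_filter, filter_mem_eq_inter]
    rw [sum_congr rfl fun w _ => e w, sum_comm, sum_congr rfl (g := fun _ => 20) fun p hp => ?_, sum_const, hblk]
    · rfl
    · rw [← card_filter, filter_erase, card_erase_of_mem (by simp [hp]), through_one hG x p]
  have h2 : ∑ w ∈ S, ((blk x y ∩ blk x w).card * (blk x y ∩ blk x w).card) = 240 := by
    rw [← hsub (fun w => (blk x y ∩ blk x w).card * (blk x y ∩ blk x w).card) fun w h h' => by simp [hzero w h h']]
    have e : ∀ w, (blk x y ∩ blk x w).card * (blk x y ∩ blk x w).card =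
        ∑ pq ∈ blk x y ×ˢ blk x y, if pq.1 ∈ blk x w ∧ pq.2 ∈ blk x w then 1 else 0 := fun w => by
      rw [← card_filter, ← card_product]
      congr 1
      ext ⟨a, b⟩
      simp only [mem_product, mem_inter, mem_filter]
      tauto
    rw [sum_congr rfl fun w _ => e w, sum_comm,
      sum_congr rfl (g := fun pq : Near G x × Near G x => 4 + if pq.1 = pq.2 then 16 else 0) fun pq hpq => ?_,
      sum_add_distrib, sum_const, card_product, hblk, ← sum_filter, sum_const,
      show (blk x y ×ˢ blk x y).filter (fun pq => pq.1 = pq.2) = (blk x y).diag from by ext ⟨a, b⟩; simp only [mem_filter, mem_product, mem_diag]; exact ⟨fun h => ⟨h.1.1, h.2⟩, fun h => ⟨⟨h.1, (h.2 : a = b) ▸ h.1⟩, h.2⟩⟩,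
      diag_card, hblk]
    · rfl
    obtain ⟨hp, hq⟩ := mem_product.1 hpq
    rw [← card_filter, filter_erase, card_erase_of_mem (by simp [hp, hq])]
    by_cases h : pq.1 = pq.2
    · rw [if_pos h]
      rw [show (univ.filter fun w => pq.1 ∈ blk x w ∧ pq.2 ∈ blk x w) = univ.filter fun w => pq.1 ∈ blk x w by
        simp [← h], through_one hG x pq.1]
    · rw [if_neg h, through_two hG x h]
  by_contra hne2
  have hz' : z ∈ S := mem_filter.2 ⟨mem_univ _, hne.symm, hz⟩
  have key : ∑ w ∈ S, (((blk x y ∩ blk x w).card : ℤ) - 2) ^ 2 = 0 := by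
    have e1 : (∑ w ∈ S, ((blk x y ∩ blk x w).card : ℤ)) = 120 := by exact_mod_cast h1
    have e2 : (∑ w ∈ S, ((blk x y ∩ blk x w).card : ℤ) * (blk x y ∩ blk x w).card) = 240 := by exact_mod_cast h2
    have e : ∀ m : ℤ, (m - 2) ^ 2 = m * m - 4 * m + 4 := fun m => by ring
    rw [sum_congr rfl fun w _ => e _, sum_add_distrib, sum_sub_distrib, ← mul_sum, sum_const, hSc, e1, e2]
    norm_num
  have := (sum_eq_zero_iff_of_nonneg fun w _ => sq_nonneg _).1 key z hz'
  rw [sq_eq_zero_iff, sub_eq_zero] at this
  exact hne2 (by exact_mod_cast this)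

theorem blk_injective (hG : G.IsSRGWith 100 22 0 6) (x : V) : Function.Injective (blk (G := G) x) := by
  intro y z h
  by_contra hne
  obtain ⟨h1, h2⟩ := meet hG x hne
  have h6 := card_blk hG x y
  by_cases ha : G.Adj y.1 z.1
  · have := h1 ha
    rw [← h, disjoint_self, bot_eq_empty] at this
    rw [this] at h6
    simp at h6
  · have := h2 ha
    rw [← h, inter_self] at this
    omega

theorem inter_le_two (hG : G.IsSRGWith 100 22 0 6) (x : V) {y z : Far G x} (hne : y ≠ z) :
    (blk x y ∩ blk x z).card ≤ 2 := by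
  obtain ⟨h1, h2⟩ := meet hG x hne
  by_cases ha : G.Adj y.1 z.1
  · rw [disjoint_iff_inter_eq_empty.1 (h1 ha), card_empty]; omega
  · rw [h2 ha]

/-- The system of a vertex. -/
def sys (x : V) : Set (Finset (Near G x)) := Set.range (blk x)

theorem sys_steiner (hG : G.IsSRGWith 100 22 0 6) (x : V) : IsSteinerSystem 3 6 (sys (G := G) x) := by
  refine ⟨by rintro _ ⟨y, rfl⟩; exact card_blk hG x y, fun F hF => ?_⟩
  have hinj : Set.InjOn (fun p : Σ _ : Far G x, Finset (Near G x) => p.2)
      (↑((univ : Finset (Far G x)).sigma fun y => powersetCard 3 (blk x y)) : Set (Σ _ : Far G x, Finset (Near G x))) := by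
    rintro ⟨y, F⟩ hy ⟨z, F'⟩ hz (rfl : F = F')
    simp only [mem_coe, mem_sigma, mem_univ, true_and, mem_powersetCard] at hy hz
    obtain rfl : y = z := by
      by_contra hne
      have := (card_le_card (subset_inter hy.1 hz.1)).trans (inter_le_two hG x hne)
      omega
    rfl
  have hall : (univ.sigma fun y => powersetCard 3 (blk x y)).image (fun p : Σ _ : Far G x, Finset (Near G x) => p.2) = powersetCard 3 univ :=
    eq_of_subset_of_card_le (fun F hF => by
      obtain ⟨⟨y, F⟩, h, rfl⟩ := mem_image.1 hF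
      exact mem_powersetCard.2 ⟨subset_univ F, (mem_powersetCard.1 (mem_sigma.1 h).2).2⟩) (by
      rw [card_powersetCard, card_univ, card_near hG x, card_image_of_injOn hinj, card_sigma]
      simp only [card_powersetCard, card_blk hG x, sum_const, card_univ, card_far hG x]
      decide)
  obtain ⟨⟨y, F'⟩, hy, rfl⟩ := mem_image.1
    (show F ∈ (univ.sigma fun y => powersetCard 3 (blk x y)).image (fun p : Σ _ : Far G x, Finset (Near G x) => p.2) from
      hall ▸ mem_powersetCard.2 ⟨subset_univ _, hF⟩)
  simp only [mem_sigma, mem_univ, true_and, mem_powersetCard] at hy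
  refine ⟨blk x y, ⟨⟨y, rfl⟩, hy.1⟩, ?_⟩
  rintro _ ⟨⟨z, rfl⟩, hz⟩
  by_contra hne
  have hFc : F'.card = 3 := hy.2
  have := (card_le_card (subset_inter hy.1 hz)).trans (inter_le_two hG x fun e => hne (e ▸ rfl))
  omega

/-- The graph is the point-block graph of the system of any vertex. -/
theorem exists_iso_sys (hG : G.IsSRGWith 100 22 0 6) (x : V) :
    ∃ φ : pointBlockGraph (sys (G := G) x) ≃g G, φ none = x := by
  let ψ : Option (Near G x ⊕ sys (G := G) x) → V
    | none => x
    | some (Sum.inl p) => p.1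
    | some (Sum.inr b) => (b.2.choose : Far G x).1
  have hψb : ∀ b : sys (G := G) x, blk x b.2.choose = b.1 := fun b => b.2.choose_spec
  have hinj : Function.Injective ψ := by
    rintro (_ | p | b) (_ | q | c) h
    · rfl
    · change x = q.1 at h
      exact absurd (h.symm ▸ q.2) (SimpleGraph.irrefl G)
    · exact absurd h.symm c.2.choose.2.1
    · change p.1 = x at h
      exact absurd (h ▸ p.2) (SimpleGraph.irrefl G)
    · exact congrArg (fun a => some (Sum.inl a)) (Subtype.ext h)
    · change p.1 = c.2.choose.1 at h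
      exact absurd (h ▸ p.2) c.2.choose.2.2
    · exact absurd h b.2.choose.2.1
    · change b.2.choose.1 = q.1 at h
      exact absurd (h.symm ▸ q.2) b.2.choose.2.2
    · refine congrArg (fun a => some (Sum.inr a)) (Subtype.ext ?_)
      rw [← hψb b, ← hψb c]
      exact congrArg _ (Subtype.ext h)
  haveI : Fintype (sys (G := G) x) := Fintype.ofFinite _
  have hcard : Fintype.card (sys (G := G) x) = 77 := by
    rw [← Nat.card_eq_fintype_card, sys, Nat.card_range_of_injective (blk_injective hG x), Nat.card_eq_fintype_card,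
      card_far hG x]
  let e := Equiv.ofBijective ψ ((Fintype.bijective_iff_injective_and_card ψ).2
    ⟨hinj, by rw [Fintype.card_option, Fintype.card_sum, card_near hG x, hcard, hG.card]⟩)
  refine ⟨⟨e, fun {a b} => ?_⟩, rfl⟩
  show G.Adj (ψ a) (ψ b) ↔ _
  rcases a with _ | p | c <;> rcases b with _ | q | d <;>
    simp only [pointBlockGraph, SimpleGraph.fromRel_adj, pointBlockRel, ne_eq, not_true_eq_false, false_and,
      reduceCtorEq, not_false_eq_true, true_and, or_false, false_or, ψ]
  · exact iff_of_false (SimpleGraph.irrefl G) id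
  · exact iff_of_true q.2 trivial
  · exact iff_of_false d.2.choose.2.2 id
  · exact iff_of_true p.2.symm trivial
  · exact iff_of_false (no_triangle hG p.2 q.2) (by tauto)
  · refine Iff.trans ?_ ⟨fun h => ⟨fun e => by simp at e, h⟩, fun h => h.2⟩
    conv_rhs => rw [← hψb d]
    simp [blk, G.adj_comm]
  · exact iff_of_false (fun h => c.2.choose.2.2 h.symm) id
  · refine Iff.trans ?_ ⟨fun h => ⟨fun e => by simp at e, h⟩, fun h => h.2⟩
    conv_rhs => rw [← hψb c]
    simp [blk]
  · constructor
    · intro h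
      have hne : c.2.choose ≠ d.2.choose := fun e => G.irrefl (e ▸ h)
      refine ⟨fun e => hne ?_, Or.inl ?_⟩
      · simp only [Option.some.injEq, Sum.inr.injEq] at e
        subst e; rfl
      · rw [← hψb c, ← hψb d]; exact (meet hG x hne).1 h
    · rintro ⟨hne, hd⟩
      by_contra h
      have hne' : c.2.choose ≠ d.2.choose := fun e => hne (by
        simp only [Option.some.injEq, Sum.inr.injEq]
        exact Subtype.ext (by rw [← hψb c, ← hψb d, e]))
      have h2 := (meet hG x hne').2 h
      rw [hψb c, hψb d] at h2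
      rcases hd with hd | hd
      · rw [disjoint_iff_inter_eq_empty.1 hd] at h2; simp at h2
      · rw [inter_comm, disjoint_iff_inter_eq_empty.1 hd] at h2; simp at h2

/-- An isomorphism of systems gives one of graphs. -/
theorem iso_of_systems {α β : Type*} [DecidableEq β] {B : Set (Finset α)} {C : Set (Finset β)} (e : α ≃ β)
    (he : (fun b : Finset α => b.image e) '' B = C) :
    ∃ φ : pointBlockGraph B ≃g pointBlockGraph C, φ none = none ∧ (∀ p, φ (some (Sum.inl p)) = some (Sum.inl (e p))) ∧
      ∀ b : B, ∃ c : C, φ (some (Sum.inr b)) = some (Sum.inr c) ∧ c.1 = b.1.image e := by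
  let eb : B ≃ C := Equiv.ofBijective (fun b => ⟨b.1.image e, he ▸ Set.mem_image_of_mem _ b.2⟩)
    ⟨fun a b h => Subtype.ext (image_injective e.injective (congrArg Subtype.val h)), fun c => by
      obtain ⟨b, hb, h⟩ : c.1 ∈ (fun b : Finset α => b.image e) '' B := he ▸ c.2
      exact ⟨⟨b, hb⟩, Subtype.ext h⟩⟩
  refine ⟨⟨Equiv.optionCongr (Equiv.sumCongr e eb), fun {a b} => ?_⟩, rfl, fun p => rfl, fun b => ⟨eb b, rfl, rfl⟩⟩
  rcases a with _ | p | c <;> rcases b with _ | q | d <;>
    simp [pointBlockGraph, pointBlockRel, eb, Equiv.ofBijective, disjoint_image e.injective, e.injective.eq_iff,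
      Subtype.ext_iff, (image_injective e.injective).eq_iff]

theorem iso_system {α : Type*} [Fintype α] [DecidableEq α] (hα : Fintype.card α = 22) {B : Set (Finset α)}
    (hB : IsSteinerSystem 3 6 B) (hG : G.IsSRGWith 100 22 0 6) (x : V) :
    ∃ φ : pointBlockGraph B ≃g G, φ none = x := by
  obtain ⟨f, hf⟩ := Plane.steiner22 hα hB
  obtain ⟨f', hf'⟩ := Plane.steiner22 (card_near hG x) (sys_steiner hG x)
  obtain ⟨e, he⟩ := Search.iso_of_fam f hf f' hf'
  obtain ⟨φ, hφ, -⟩ := iso_of_systems e he
  obtain ⟨ψ, hψ⟩ := exists_iso_sys hG x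
  exact ⟨φ.trans ψ, by rw [RelIso.trans_apply, hφ, hψ]⟩

theorem unique {W : Type*} [Fintype W] [DecidableEq W] {H : SimpleGraph W} [DecidableRel H.Adj]
    (hG : G.IsSRGWith 100 22 0 6) (hH : H.IsSRGWith 100 22 0 6) : Nonempty (G ≃g H) := by
  haveI : Nonempty V := Fintype.card_pos_iff.1 (by rw [hG.card]; norm_num)
  haveI : Nonempty W := Fintype.card_pos_iff.1 (by rw [hH.card]; norm_num)
  obtain ⟨x⟩ := ‹Nonempty V›
  obtain ⟨y⟩ := ‹Nonempty W›
  obtain ⟨ψ, -⟩ := exists_iso_sys hG x
  obtain ⟨φ, -⟩ := iso_system (card_near hG x) (sys_steiner hG x) hH y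
  exact ⟨ψ.symm.trans φ⟩

end CfsgLib.Spor.HSGraph
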