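/-
The automorphism group of the point-block graph of an S(3,6,22), and its simple subgroup of index two.
-/
import Cfsg.Agent.Lib.Spor.HSGraph.Recon
import Cfsg.Agent.Lib.Spor.HSGraph.OddData
import Cfsg.Agent.Lib.Spor.PlaneFour.Aut22
import Mathlib.GroupTheory.Perm.Option
import Mathlib.GroupTheory.Sylow

set_option autoImplicit false

namespace CfsgLib.Spor.HSGraph

open Cfsg Finset

variable {α : Type*} [DecidableEq α] {B : Set (Finset α)}

/-- The graph automorphisms as a group of permutations. -/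
def autHom (B : Set (Finset α)) :
    (pointBlockGraph B ≃g pointBlockGraph B) →* Equiv.Perm (Option (α ⊕ B)) where
  toFun φ := φ.toEquiv
  map_one' := rfl
  map_mul' _ _ := rfl

omit [DecidableEq α] in
theorem autHom_injective : Function.Injective (autHom B) := fun _ _ h =>
  RelIso.ext fun v => Equiv.ext_iff.1 h v

omit [DecidableEq α] in
theorem adj_none_iff {v : Option (α ⊕ B)} : (pointBlockGraph B).Adj none v ↔ ∃ p, v = some (Sum.inl p) := by
  rcases v with _ | p | b <;> simp [pointBlockGraph, pointBlockRel]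

omit [DecidableEq α] in
theorem adj_blk_pt {p : α} {b : B} : (pointBlockGraph B).Adj (some (Sum.inl p)) (some (Sum.inr b)) ↔ p ∈ b.1 := by
  simp [pointBlockGraph, pointBlockRel]

/-- The stabiliser of the extra vertex. -/
abbrev stab0 (B : Set (Finset α)) : Subgroup (autHom B).range := MulAction.stabilizer _ (none : Option (α ⊕ B))

/-- Automorphisms of the system act on the graph, fixing the extra vertex. -/
theorem exists_lift [Fintype α] (g : Equiv.Perm α) (hg : g ∈ setSystemAut B) :
    ∃ K : stab0 B, (∀ p, K.1.1 (some (Sum.inl p)) = some (Sum.inl (g p))) ∧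
      ∀ b : B, ∃ c : B, K.1.1 (some (Sum.inr b)) = some (Sum.inr c) ∧ c.1 = b.1.image g := by
  obtain ⟨φ, h0, h1, h2⟩ := iso_of_systems g (CfsgLib.Spor.mem_setSystemAut.1 hg)
  exact ⟨⟨⟨_, ⟨φ, rfl⟩⟩, h0⟩, h1, h2⟩

theorem stab0_iso [Fintype α] (hB : ∀ b ∈ B, b.card = 6) :
    ∃ Φ : stab0 B ≃* setSystemAut B, ∀ K, (∀ p, K.1.1 (some (Sum.inl p)) = some (Sum.inl ((Φ K).1 p))) ∧
      ∀ b : B, ∃ c : B, K.1.1 (some (Sum.inr b)) = some (Sum.inr c) ∧ c.1 = b.1.image (Φ K).1 := by
  classical
  have adj : ∀ (K : stab0 B) a b, (pointBlockGraph B).Adj (K.1.1 a) (K.1.1 b) ↔ (pointBlockGraph B).Adj a b := by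
    intro K a b
    obtain ⟨φ, hφ⟩ := K.1.2
    rw [← hφ]
    exact φ.map_rel_iff
  have h0 : ∀ K : stab0 B, K.1.1 none = none := fun K => K.2
  have hpt : ∀ (K : stab0 B) p, ∃ q, K.1.1 (some (Sum.inl p)) = some (Sum.inl q) := fun K p => by
    have := (adj K none (some (Sum.inl p))).2 (adj_none_iff.2 ⟨p, rfl⟩)
    rw [h0 K] at this
    exact adj_none_iff.1 this
  choose σ hσ using hpt
  have hσinj : ∀ K, Function.Injective (σ K) := fun K a b h => by
    have := K.1.1.injective ((hσ K a).trans ((congrArg (fun q => some (Sum.inl q)) h).trans (hσ K b).symm))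
    simpa using this
  let s : stab0 B → Equiv.Perm α := fun K => Equiv.ofBijective (σ K) (Finite.injective_iff_bijective.1 (hσinj K))
  have hblk : ∀ (K : stab0 B) (b : B), ∃ c : B, K.1.1 (some (Sum.inr b)) = some (Sum.inr c) ∧ c.1 = b.1.image (s K) := by
    intro K b
    rcases hv : K.1.1 (some (Sum.inr b)) with _ | q | c
    · exact absurd (K.1.1.injective (hv.trans (h0 K).symm)) (by simp)
    · exfalso
      obtain ⟨p, hp⟩ := (Finite.injective_iff_surjective.1 (hσinj K)) q
      have := K.1.1.injective (hv.trans ((congrArg (fun q => some (Sum.inl q)) hp).symm.trans (hσ K p).symm))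
      simp at this
    · refine ⟨c, rfl, ?_⟩
      ext q
      obtain ⟨p, rfl⟩ := (s K).surjective q
      rw [mem_image]
      have := adj K (some (Sum.inl p)) (some (Sum.inr b))
      rw [hσ, hv, adj_blk_pt, adj_blk_pt] at this
      exact ⟨fun h => ⟨p, this.1 h, rfl⟩, fun ⟨a, ha, e⟩ => this.2 ((s K).injective e ▸ ha)⟩
  have hs : ∀ K, s K ∈ setSystemAut B := fun K => by
    rw [CfsgLib.Spor.mem_setSystemAut]
    refine Set.eq_of_subset_of_ncard_le ?_
      (by rw [Set.ncard_image_of_injective _ (image_injective (Equiv.injective _))]) (Set.toFinite _)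
    rintro _ ⟨b, hb, rfl⟩
    obtain ⟨c, -, hc⟩ := hblk K ⟨b, hb⟩
    show b.image (s K) ∈ B
    rw [← hc]
    exact c.2
  let ψ : stab0 B →* setSystemAut B :=
    { toFun := fun K => ⟨s K, hs K⟩
      map_one' := Subtype.ext (Equiv.ext fun p => by
        have h : some (Sum.inl p) = (some (Sum.inl (σ 1 p)) : Option (α ⊕ B)) := hσ 1 p
        simp only [Option.some.injEq, Sum.inl.injEq] at h
        exact h.symm)
      map_mul' := fun K L => Subtype.ext (Equiv.ext fun p => by
        have h : K.1.1 (L.1.1 (some (Sum.inl p))) = some (Sum.inl (σ (K * L) p)) := hσ (K * L) p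
        rw [hσ L p, hσ K] at h
        simp only [Option.some.injEq, Sum.inl.injEq] at h
        exact h.symm) }
  have hinj : Function.Injective ψ := by
    intro K L h
    have he : s K = s L := congrArg Subtype.val h
    refine Subtype.ext (Subtype.ext (Equiv.ext fun v => ?_))
    rcases v with _ | p | b
    · rw [h0, h0]
    · rw [hσ, hσ]; exact congrArg (fun q => some (Sum.inl q)) (Equiv.ext_iff.1 he p)
    · obtain ⟨c, hc, hc'⟩ := hblk K b
      obtain ⟨d, hd, hd'⟩ := hblk L b
      rw [hc, hd]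
      exact congrArg (fun x => some (Sum.inr x)) (Subtype.ext (by rw [hc', hd', he]))
  have hsurj : Function.Surjective ψ := fun g => by
    obtain ⟨K, hK, -⟩ := exists_lift g.1 g.2
    refine ⟨K, Subtype.ext (Equiv.ext fun p => ?_)⟩
    have := (hσ K p).symm.trans (hK p)
    simp only [Option.some.injEq, Sum.inl.injEq] at this
    exact this
  exact ⟨MulEquiv.ofBijective ψ ⟨hinj, hsurj⟩, fun K => ⟨fun p => hσ K p, fun b => hblk K b⟩⟩

theorem pretransitive [Fintype α] (hα : Fintype.card α = 22) (hB : IsSteinerSystem 3 6 B) :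
    MulAction.IsPretransitive (autHom B).range (Option (α ⊕ B)) := by
  classical
  haveI : Fintype B := Fintype.ofFinite _
  have hG := CfsgLib.Spor.Steiner.pointBlock_srg hα hB
  constructor
  intro v w
  obtain ⟨φ, hφ⟩ := iso_system hα hB hG v
  obtain ⟨ψ, hψ⟩ := iso_system hα hB hG w
  refine ⟨⟨_, ⟨φ.symm.trans ψ, rfl⟩⟩, ?_⟩
  show ψ (φ.symm v) = w
  rw [← hφ, RelIso.symm_apply_apply, hψ]

theorem card_aut [Fintype α] (hα : Fintype.card α = 22) (hB : IsSteinerSystem 3 6 B) :
    Nat.card (autHom B).range = 88704000 := by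
  classical
  haveI : Fintype B := Fintype.ofFinite _
  have hG := CfsgLib.Spor.Steiner.pointBlock_srg hα hB
  haveI := pretransitive hα hB
  obtain ⟨Φ, -⟩ := stab0_iso (B := B) hB.1
  have h := (stab0 B).index_mul_card
  rw [MulAction.index_stabilizer_of_transitive, Nat.card_eq_fintype_card (α := Option (α ⊕ B)), hG.card,
    Nat.card_congr Φ.toEquiv, (Plane.aut22 hα hB).1] at h
  exact h.symm

/-- An odd automorphism fixing the extra vertex, a point and a block. -/
theorem exists_odd [Fintype α] (hα : Fintype.card α = 22) (hB : IsSteinerSystem 3 6 B) [Fintype B] :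
    ∃ t : stab0 B, Equiv.Perm.sign t.1.1 = -1 ∧ (∃ p, t.1.1 (some (Sum.inl p)) = some (Sum.inl p)) ∧
      ∃ b, t.1.1 (some (Sum.inr b)) = some (Sum.inr b) := by
  classical
  open CfsgLib.Spor.Search CfsgLib.Spor.Plane in
  obtain ⟨f, hf⟩ := steiner22 hα hB
  obtain ⟨hinv, hp, hq, hfixp, hfixb, hlen⟩ := odd_check
  obtain ⟨hne1, hne2, hodd⟩ := swaps_ne
  set π := Search.permOf 22 oddPts hinv
  have hπ : π = swapProd swapsPts := Equiv.ext fun i => Fin.ext (hp i)
  have hk : ∀ j : Fin 77, Plane.k22.getD j.1 0 ∈ Plane.k22 := fun j => by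
    rw [List.getD_eq_getElem _ _ (j.2.trans_eq hlen.symm)]; exact List.getElem_mem _
  have hlt : ∀ m ∈ Plane.k22, m < 2 ^ 22 := by decide +kernel
  have hnd : Plane.k22.Nodup := by decide +kernel
  have hsub : ∀ j : Fin 77, (Search.mset 22 (Plane.k22.getD j.1 0)).image f.symm ∈ B := fun j => by
    have : Search.mset 22 (Plane.k22.getD j.1 0) ∈ (fun b : Finset α => b.image f) '' B := hf ▸ ⟨_, hk j, rfl⟩
    obtain ⟨b, hb, hbe⟩ := this
    rw [← hbe, image_image, Equiv.symm_comp_self, image_id]
    exact hb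
  let idx : Fin 77 → B := fun j => ⟨_, hsub j⟩
  have hidx : Function.Bijective idx := by
    refine ⟨fun a b h => ?_, fun b => ?_⟩
    · have h' := congrArg Subtype.val h
      have := Search.mset_injOn (hlt _ (hk a)) (hlt _ (hk b)) (image_injective f.symm.injective h')
      rw [List.getD_eq_getElem _ _ (a.2.trans_eq hlen.symm), List.getD_eq_getElem _ _ (b.2.trans_eq hlen.symm),
        hnd.getElem_inj_iff] at this
      exact Fin.ext this
    · obtain ⟨m, hm, e⟩ : b.1.image f ∈ Search.fam 22 Plane.k22 :=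
        hf ▸ Set.mem_image_of_mem (fun b : Finset α => b.image f) b.2
      obtain ⟨j, hj, rfl⟩ := List.getElem_of_mem hm
      refine ⟨⟨j, hj.trans_eq hlen⟩, Subtype.ext ?_⟩
      show (Search.mset 22 (Plane.k22.getD j 0)).image f.symm = b.1
      rw [List.getD_eq_getElem _ _ hj, ← e, image_image, Equiv.symm_comp_self, image_id]
  let E := Equiv.ofBijective idx hidx
  have hπ' : π ∈ setSystemAut (Search.fam 22 Plane.k22) := by
    rw [CfsgLib.Spor.mem_setSystemAut]
    refine Set.eq_of_subset_of_ncard_le ?_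
      (by rw [Set.ncard_image_of_injective _ (image_injective (Equiv.injective _))]) (Set.toFinite _)
    rintro _ ⟨_, ⟨m, hm, rfl⟩, rfl⟩
    obtain ⟨j, hj, rfl⟩ := List.getElem_of_mem hm
    have := hq ⟨j, hj.trans_eq hlen⟩
    rw [List.getD_eq_getElem _ _ hj] at this
    exact ⟨_, hk _, by rw [← this, Plane.mset_mapFast 22 oddPts hinv]⟩
  set g : Equiv.Perm α := f.symm.permCongr π with hg
  have hgB : g ∈ setSystemAut B := by
    rw [CfsgLib.Spor.mem_setSystemAut]
    rw [CfsgLib.Spor.mem_setSystemAut] at hπ'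
    conv_rhs => rw [← CfsgLib.Spor.image_trans hf, ← hπ', ← hf]
    rw [Set.image_image, Set.image_image]
    refine congrArg (fun F => F '' B) (funext fun b => ?_)
    simp [image_image, Function.comp_def, hg, Equiv.permCongr_def]
  obtain ⟨t, ht1, ht2⟩ := exists_lift g hgB
  have hblk : ∀ j, t.1.1 (some (Sum.inr (E j))) = some (Sum.inr (E (swapProd swapsBlks j))) := by
    intro j
    obtain ⟨c, hc, hc'⟩ := ht2 (E j)
    rw [hc]
    refine congrArg (fun x => some (Sum.inr x)) (Subtype.ext ?_)
    rw [hc']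
    show ((Search.mset 22 (Plane.k22.getD j.1 0)).image f.symm).image g =
      (Search.mset 22 (Plane.k22.getD (swapProd swapsBlks j).1 0)).image f.symm
    rw [← hq j, Plane.mset_mapFast 22 oddPts hinv, image_image, image_image]
    refine image_congr fun i _ => ?_
    simp [hg, Equiv.permCongr_def, π]
  have ht : t.1.1 = Equiv.optionCongr (Equiv.sumCongr g (E.permCongr (swapProd swapsBlks))) := by
    refine Equiv.ext fun v => ?_
    rcases v with _ | p | b
    · exact t.2
    · exact ht1 p
    · obtain ⟨j, rfl⟩ := E.surjective b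
      rw [hblk j]
      simp [Equiv.permCongr_def]
  refine ⟨t, ?_, ⟨f.symm 0, ?_⟩, ⟨E 0, ?_⟩⟩
  · rw [ht, Equiv.optionCongr_sign, Equiv.Perm.sign_sumCongr, hg, Equiv.Perm.sign_permCongr, Equiv.Perm.sign_permCongr,
      hπ, sign_swapProd _ hne1, sign_swapProd _ hne2, ← pow_add, hodd.neg_one_pow]
  · rw [ht1]
    refine congrArg (fun x => some (Sum.inl x)) ?_
    have : π 0 = 0 := Fin.ext hfixp
    simp [hg, Equiv.permCongr_def, this]
  · rw [hblk, hfixb]

theorem exists_hs [Fintype α] (hα : Fintype.card α = 22) (hB : IsSteinerSystem 3 6 B) :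
    ∃ H : Subgroup (autHom B).range, IsHS H := by
  classical
  haveI : Fintype B := Fintype.ofFinite _
  haveI := pretransitive hα hB
  obtain ⟨Φ, hΦ⟩ := stab0_iso (B := B) hB.1
  obtain ⟨c22, t22, S, hSidx, hSsimple, hScard⟩ := Plane.aut22 hα hB
  obtain ⟨t, htsign, ⟨p0, hp0⟩, ⟨b0, hb0⟩⟩ := exists_odd hα hB
  let χ : (autHom B).range →* ℤˣ := Equiv.Perm.sign.comp (autHom B).range.subtype
  have ht : χ t.1 = -1 := htsign
  set H := χ.ker with hH
  have hidx : H.index = 2 := by
    rw [hH, Subgroup.index_ker, show (χ.range : Subgroup ℤˣ) = ⊤ from eq_top_iff.2 fun u _ => by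
      rcases Int.units_eq_one_or u with rfl | rfl
      · exact one_mem _
      · exact ⟨t.1, ht⟩]
    simp
  have hHcard : Nat.card H = 44352000 := by
    have := H.index_mul_card
    rw [hidx, card_aut hα hB] at this
    omega
  have hdich : ∀ g : (autHom B).range, g ∈ H ∨ g * t.1 ∈ H := fun g => by
    rcases Int.units_eq_one_or (χ g) with h | h
    · exact Or.inl (MonoidHom.mem_ker.2 h)
    · exact Or.inr (MonoidHom.mem_ker.2 (by rw [map_mul, h, ht]; decide))
  have h22 : Nat.card (stab0 B) = 887040 := by rw [Nat.card_congr Φ.toEquiv, c22]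
  -- the stabiliser inside `H`
  let H0 : Subgroup (stab0 B) := H.comap (stab0 B).subtype
  have hH0idx : H0.index = 2 := by
    have e : H0 = (χ.comp (stab0 B).subtype).ker := rfl
    rw [e, Subgroup.index_ker, show ((χ.comp (stab0 B).subtype).range : Subgroup ℤˣ) = ⊤ from eq_top_iff.2 fun u _ => by
      rcases Int.units_eq_one_or u with rfl | rfl
      · exact one_mem _
      · exact ⟨t, ht⟩]
    simp
  have hH0card : Nat.card H0 = 443520 := by
    have := H0.index_mul_card
    rw [hH0idx, h22] at this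
    omega
  haveI := hSsimple
  let S' : Subgroup (stab0 B) := S.comap Φ.toMonoidHom
  have eS : S' ≃* S := (Φ.subgroupMap S').trans (MulEquiv.subgroupCongr
    (Subgroup.map_comap_eq_self_of_surjective Φ.surjective S))
  haveI hS's : IsSimpleGroup S' := eS.isSimpleGroup
  have hS'H : S' ≤ H0 := by
    intro g hg
    let χ' : S' →* ℤˣ := (χ.comp (stab0 B).subtype).comp S'.subtype
    rcases χ'.normal_ker.eq_bot_or_eq_top with h | h
    · exfalso
      have hinj : Function.Injective χ' := (MonoidHom.ker_eq_bot_iff χ').1 h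
      have := Nat.card_le_card_of_injective χ' hinj
      rw [Nat.card_congr eS.toEquiv, hScard, Nat.card_eq_fintype_card, Fintype.card_units_int] at this
      omega
    · exact MonoidHom.mem_ker.1 (h ▸ Subgroup.mem_top (⟨g, hg⟩ : S') : (⟨g, hg⟩ : S') ∈ χ'.ker)
  have hS'eq : S' = H0 := Subgroup.eq_of_le_of_card_ge hS'H (by rw [Nat.card_congr eS.toEquiv, hScard, hH0card])
  haveI hH0s : IsSimpleGroup H0 := hS'eq ▸ hS's
  -- transitivity of the stabiliser on points and on blocks
  have hfix0 : ∀ K : stab0 B, K.1.1 none = none := fun K => K.2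
  have hdich0 : ∀ K : stab0 B, K ∈ H0 ∨ K * t ∈ H0 := fun K => hdich K.1
  have trp : ∀ p q : α, ∃ K ∈ H0, K.1.1 (some (Sum.inl p)) = some (Sum.inl q) := by
    have key : ∀ q : α, ∃ K ∈ H0, K.1.1 (some (Sum.inl p0)) = some (Sum.inl q) := by
      intro q
      haveI := t22
      haveI : MulAction.IsPretransitive (setSystemAut B) α :=
        MulAction.isPretransitive_of_is_two_pretransitive (h2 := MulAction.isMultiplyPretransitive_of_le (n := 3) (by norm_num) (by simp [hα]))
      obtain ⟨g, hg⟩ := MulAction.exists_smul_eq (setSystemAut B) p0 q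
      have hK : (Φ.symm g).1.1 (some (Sum.inl p0)) = some (Sum.inl q) := by
        rw [(hΦ (Φ.symm g)).1 p0, Φ.apply_symm_apply]
        exact congrArg (fun x => some (Sum.inl x)) hg
      rcases hdich0 (Φ.symm g) with h | h
      · exact ⟨_, h, hK⟩
      · exact ⟨_, h, by show (Φ.symm g).1.1 (t.1.1 _) = _; rw [hp0, hK]⟩
    intro p q
    obtain ⟨K, hK, eK⟩ := key p
    obtain ⟨L, hL, eL⟩ := key q
    refine ⟨L * K⁻¹, mul_mem hL (inv_mem hK), ?_⟩
    show L.1.1 (K.1.1⁻¹ _) = _
    rw [← eK, Equiv.Perm.inv_def, Equiv.symm_apply_apply, eL]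
  have trb : ∀ b c : B, ∃ K ∈ H0, K.1.1 (some (Sum.inr b)) = some (Sum.inr c) := by
    have key : ∀ c : B, ∃ K ∈ H0, K.1.1 (some (Sum.inr b0)) = some (Sum.inr c) := by
      intro c
      obtain ⟨T, hT, hTc⟩ := exists_subset_card_eq (s := b0.1) (n := 3) (by rw [hB.1 _ b0.2]; norm_num)
      obtain ⟨U, hU, hUc⟩ := exists_subset_card_eq (s := c.1) (n := 3) (by rw [hB.1 _ c.2]; norm_num)
      let x : Fin 3 ↪ α := (T.equivFinOfCardEq hTc).symm.toEmbedding.trans (Function.Embedding.subtype _)
      let y : Fin 3 ↪ α := (U.equivFinOfCardEq hUc).symm.toEmbedding.trans (Function.Embedding.subtype _)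
      haveI := t22
      obtain ⟨g, hg⟩ := MulAction.exists_smul_eq (setSystemAut B) x y
      obtain ⟨d, hd, hd'⟩ := (hΦ (Φ.symm g)).2 b0
      rw [Φ.apply_symm_apply] at hd'
      have hdc : d = c := Subtype.ext ((hB.2 U hUc).unique ⟨d.2, fun u hu => ?_⟩ ⟨c.2, hU⟩)
      swap
      · obtain ⟨i, hi⟩ := (U.equivFinOfCardEq hUc).symm.surjective ⟨u, hu⟩
        rw [hd', mem_image]
        refine ⟨x i, hT ((T.equivFinOfCardEq hTc).symm i).2, ?_⟩
        exact (congrArg (fun e : Fin 3 ↪ α => e i) hg).trans (congrArg Subtype.val hi)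
      subst hdc
      rcases hdich0 (Φ.symm g) with h | h
      · exact ⟨_, h, hd⟩
      · exact ⟨_, h, by show (Φ.symm g).1.1 (t.1.1 _) = _; rw [hb0, hd]⟩
    intro b c
    obtain ⟨K, hK, eK⟩ := key b
    obtain ⟨L, hL, eL⟩ := key c
    refine ⟨L * K⁻¹, mul_mem hL (inv_mem hK), ?_⟩
    show L.1.1 (K.1.1⁻¹ _) = _
    rw [← eK, Equiv.Perm.inv_def, Equiv.symm_apply_apply, eL]
  haveI htr : MulAction.IsPretransitive H (Option (α ⊕ B)) := by
    refine (MulAction.isPretransitive_iff_base (none : Option (α ⊕ B))).2 fun v => ?_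
    obtain ⟨g, hg⟩ := MulAction.exists_smul_eq (autHom B).range (none : Option (α ⊕ B)) v
    rcases hdich g with h | h
    · exact ⟨⟨g, h⟩, hg⟩
    · refine ⟨⟨_, h⟩, ?_⟩
      show g.1 (t.1.1 none) = v
      rw [hfix0 t]
      exact hg
  -- orbits of normal subgroups
  have horb : ∀ N : Subgroup H, N.Normal →
      (∀ n ∈ N, (n : H) • (none : Option (α ⊕ B)) = none) ∨ (MulAction.orbit N (none : Option (α ⊕ B))).ncard = 100 := by
    intro N hN
    set O := MulAction.orbit N (none : Option (α ⊕ B)) with hO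
    have hnone : none ∈ O := MulAction.mem_orbit_self _
    have hinv : ∀ K ∈ H0, ∀ v ∈ O, K.1.1 v ∈ O := by
      rintro K hK _ ⟨n, rfl⟩
      refine ⟨⟨⟨K.1, hK⟩ * n.1 * ⟨K.1, hK⟩⁻¹, hN.conj_mem _ n.2 _⟩, ?_⟩
      show K.1.1 ((n.1 : (autHom B).range).1 (K.1.1⁻¹ none)) = _
      have : K.1.1⁻¹ none = none := by rw [Equiv.Perm.inv_eq_iff_eq]; exact (hfix0 K).symm
      rw [this]
      rfl
    have hP : (∀ p, some (Sum.inl p) ∈ O) ∨ ∀ p, (some (Sum.inl p) : Option (α ⊕ B)) ∉ O := by
      by_cases h : ∃ p, some (Sum.inl p) ∈ O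
      · obtain ⟨p, hp⟩ := h
        left; intro q
        obtain ⟨K, hK, e⟩ := trp p q
        exact e ▸ hinv K hK _ hp
      · exact Or.inr (not_exists.1 h)
    have hQ : (∀ b : B, (some (Sum.inr b) : Option (α ⊕ B)) ∈ O) ∨ ∀ b : B, (some (Sum.inr b) : Option (α ⊕ B)) ∉ O := by
      by_cases h : ∃ b : B, (some (Sum.inr b) : Option (α ⊕ B)) ∈ O
      · obtain ⟨b, hb⟩ := h
        left; intro c
        obtain ⟨K, hK, e⟩ := trb b c
        exact e ▸ hinv K hK _ hb
      · exact Or.inr (not_exists.1 h)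
    haveI : N.Normal := hN
    have hdvd : O.ncard ∣ 100 := by
      have hsz : ∀ v : Option (α ⊕ B), (MulAction.orbit N v).ncard = O.ncard := by
        intro v
        obtain ⟨g, hg⟩ := MulAction.exists_smul_eq H (none : Option (α ⊕ B)) v
        rw [← hg, hO, ← MulAction.smul_orbit_eq_orbit_smul (N := N) (g := g)]
        exact Set.ncard_smul_set g _
      have e := Nat.card_congr (MulAction.selfEquivSigmaOrbits N (Option (α ⊕ B)))
      haveI : Fintype (MulAction.orbitRel.Quotient N (Option (α ⊕ B))) := Fintype.ofFinite _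
      rw [Nat.card_sigma, sum_congr rfl (g := fun _ => O.ncard) (fun ω _ => ?_), sum_const, smul_eq_mul,
        Nat.card_eq_fintype_card, (CfsgLib.Spor.Steiner.pointBlock_srg hα hB).card] at e
      · exact Dvd.intro_left _ e.symm
      · rw [Nat.card_coe_set_eq]; exact hsz _
    have hsplit : O = insert none ({v : Option (α ⊕ B) | (∃ p, v = some (Sum.inl p)) ∧ v ∈ O} ∪
        {v | (∃ b, v = some (Sum.inr b)) ∧ v ∈ O}) := by
      ext v
      rcases v with _ | p | b <;> simp [hnone]
    have hcardB : Nat.card B = 77 := by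
      have := (CfsgLib.Spor.Steiner.pointBlock_srg hα hB).card
      rw [Fintype.card_option, Fintype.card_sum, hα] at this
      rw [Nat.card_eq_fintype_card]; omega
    have h1 : {v : Option (α ⊕ B) | (∃ p, v = some (Sum.inl p)) ∧ v ∈ O}.ncard = 22 ∨
        {v : Option (α ⊕ B) | (∃ p, v = some (Sum.inl p)) ∧ v ∈ O}.ncard = 0 := by
      rcases hP with h | h
      · left
        rw [show {v : Option (α ⊕ B) | (∃ p, v = some (Sum.inl p)) ∧ v ∈ O} = Set.range fun p => some (Sum.inl p) from
          Set.ext fun v => ⟨fun ⟨⟨p, hp⟩, _⟩ => ⟨p, hp.symm⟩, fun ⟨p, hp⟩ => ⟨⟨p, hp.symm⟩, hp ▸ h p⟩⟩,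
          Set.ncard_range_of_injective fun a b e => by simpa using e, Nat.card_eq_fintype_card, hα]
      · right
        rw [Set.ncard_eq_zero]
        exact Set.eq_empty_of_forall_notMem fun v ⟨⟨p, hp⟩, hv⟩ => h p (hp ▸ hv)
    have h2 : {v : Option (α ⊕ B) | (∃ b, v = some (Sum.inr b)) ∧ v ∈ O}.ncard = 77 ∨
        {v : Option (α ⊕ B) | (∃ b, v = some (Sum.inr b)) ∧ v ∈ O}.ncard = 0 := by
      rcases hQ with h | h
      · left
        rw [show {v : Option (α ⊕ B) | (∃ b, v = some (Sum.inr b)) ∧ v ∈ O} = Set.range fun b => some (Sum.inr b) from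
          Set.ext fun v => ⟨fun ⟨⟨b, hb⟩, _⟩ => ⟨b, hb.symm⟩, fun ⟨b, hb⟩ => ⟨⟨b, hb.symm⟩, hb ▸ h b⟩⟩,
          Set.ncard_range_of_injective fun a b e => by simpa using e, hcardB]
      · right
        rw [Set.ncard_eq_zero]
        exact Set.eq_empty_of_forall_notMem fun v ⟨⟨b, hb⟩, hv⟩ => h b (hb ▸ hv)
    have hcount := congrArg Set.ncard hsplit
    have hdisj : Disjoint {v : Option (α ⊕ B) | (∃ p, v = some (Sum.inl p)) ∧ v ∈ O}
        {v | (∃ b, v = some (Sum.inr b)) ∧ v ∈ O} := Set.disjoint_left.2 fun v h h' => by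
      obtain ⟨⟨p, hp⟩, -⟩ := h; obtain ⟨⟨b, hb⟩, -⟩ := h'
      rw [hp] at hb; simp at hb
    rw [Set.ncard_insert_of_notMem (by simp), Set.ncard_union_eq hdisj] at hcount
    rcases h1 with h1 | h1 <;> rcases h2 with h2 | h2 <;> rw [h1, h2] at hcount
    · exact Or.inr hcount
    · rw [hcount] at hdvd; omega
    · rw [hcount] at hdvd; omega
    · left
      intro n hn
      obtain ⟨a, ha⟩ := Set.ncard_eq_one.1 hcount
      have e1 : (none : Option (α ⊕ B)) = a := by
        have := hnone
        rw [ha] at this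
        exact this
      have e2 : (⟨n, hn⟩ : N) • (none : Option (α ⊕ B)) ∈ O := MulAction.mem_orbit _ _
      rw [ha, ← e1] at e2
      exact e2
  have htriv : ∀ N : Subgroup H, N.Normal → (∀ n ∈ N, (n : H) • (none : Option (α ⊕ B)) = none) → N = ⊥ := by
    intro N hN hfix
    rw [Subgroup.eq_bot_iff_forall]
    intro n hn
    refine Subtype.ext (Subtype.ext (Equiv.ext fun v => ?_))
    obtain ⟨g, rfl⟩ := MulAction.exists_smul_eq H (none : Option (α ⊕ B)) v
    show n • g • (none : Option (α ⊕ B)) = g • none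
    have := hfix (g⁻¹ * n * g) (by simpa using hN.conj_mem n hn g⁻¹)
    rw [mul_smul, mul_smul, inv_smul_eq_iff] at this
    exact this
  haveI : Nontrivial H := Finite.one_lt_card_iff_nontrivial.1 (by rw [hHcard]; norm_num)
  refine ⟨H, ⟨fun N hN => ?_⟩, hHcard⟩
  by_cases hbot : N = ⊥
  · exact Or.inl hbot
  right
  haveI := hN
  have horb100 : (MulAction.orbit N (none : Option (α ⊕ B))).ncard = 100 :=
    (horb N hN).resolve_left fun h => hbot (htriv N hN h)
  have hstab : MulAction.orbit N (none : Option (α ⊕ B)) = Set.univ := Set.eq_of_subset_of_ncard_le (Set.subset_univ _)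
    (by rw [horb100, Set.ncard_univ, Nat.card_eq_fintype_card, (CfsgLib.Spor.Steiner.pointBlock_srg hα hB).card])
  let j : H0 →* H := ((stab0 B).subtype.comp H0.subtype).codRestrict H fun K => K.2
  haveI : (N.comap j).Normal := hN.comap j
  rcases ‹(N.comap j).Normal›.eq_bot_or_eq_top with h | h
  · exfalso
    have hstab1 : MulAction.stabilizer N (none : Option (α ⊕ B)) = ⊥ := by
      rw [Subgroup.eq_bot_iff_forall]
      intro n hn
      have hn' : (n : H).1.1 none = none := hn
      have hmem : (⟨⟨(n : H).1, hn'⟩, (n : H).2⟩ : H0) ∈ N.comap j := n.2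
      rw [h, Subgroup.mem_bot] at hmem
      exact Subtype.ext (Subtype.ext (congrArg (fun K : H0 => K.1.1) hmem))
    have hNcard : Nat.card N = 100 := by
      have := (MulAction.stabilizer N (none : Option (α ⊕ B))).index_mul_card
      rw [hstab1, Subgroup.card_bot, mul_one] at this
      rw [← this, ← hstab1, MulAction.index_stabilizer, horb100]
    haveI : Fact (Nat.Prime 5) := ⟨by norm_num⟩
    have hn5 : Nat.card (Sylow 5 N) = 1 := by
      obtain ⟨P⟩ : Nonempty (Sylow 5 N) := inferInstance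
      have h1 := card_sylow_modEq_one 5 N
      have h3 : Nat.card (P : Subgroup N) = 25 := by
        rw [P.card_eq_multiplicity, hNcard]
        have : (Nat.factorization 100) 5 = 2 := by
          rw [show (100 : ℕ) = 5 ^ 2 * 4 by norm_num, Nat.factorization_mul (by norm_num) (by norm_num)]
          rw [Finsupp.add_apply, Nat.Prime.factorization_pow (by norm_num), Finsupp.single_eq_same,
            Nat.factorization_eq_zero_of_not_dvd (by norm_num)]
        rw [this]; norm_num
      have h4 : Nat.card (Sylow 5 N) ∣ 4 := by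
        have h2 := P.card_dvd_index
        have := (P : Subgroup N).index_mul_card
        rw [h3, hNcard] at this
        rwa [show (P : Subgroup N).index = 4 by omega] at h2
      have hle : Nat.card (Sylow 5 N) ≤ 4 := Nat.le_of_dvd (by norm_num) h4
      unfold Nat.ModEq at h1
      omega
    obtain ⟨P⟩ : Nonempty (Sylow 5 N) := inferInstance
    haveI : Subsingleton (Sylow 5 N) := (Nat.card_eq_one_iff_unique.1 hn5).1
    haveI hPn : (P : Subgroup N).Normal := P.normal_of_subsingleton
    haveI : (P : Subgroup N).Characteristic := P.characteristic_of_normal hPn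
    haveI : ((P : Subgroup N).map N.subtype).Normal := inferInstance
    have hP25 : Nat.card ((P : Subgroup N).map N.subtype) = 25 := by
      rw [← Nat.card_congr ((P : Subgroup N).equivMapOfInjective _ N.subtype_injective).toEquiv, P.card_eq_multiplicity, hNcard]
      have : (Nat.factorization 100) 5 = 2 := by
        rw [show (100 : ℕ) = 5 ^ 2 * 4 by norm_num, Nat.factorization_mul (by norm_num) (by norm_num)]
        rw [Finsupp.add_apply, Nat.Prime.factorization_pow (by norm_num), Finsupp.single_eq_same,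
          Nat.factorization_eq_zero_of_not_dvd (by norm_num)]
      rw [this]; norm_num
    rcases horb _ (inferInstance : ((P : Subgroup N).map N.subtype).Normal) with h' | h'
    · have := htriv _ inferInstance h'
      rw [this, Subgroup.card_bot] at hP25
      norm_num at hP25
    · have hle : (MulAction.orbit ((P : Subgroup N).map N.subtype) (none : Option (α ⊕ B))).ncard ≤ 25 := by
        rw [← hP25, ← Nat.card_coe_set_eq]
        exact Finite.card_range_le _
      omega
  · rw [eq_top_iff]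
    intro g _
    obtain ⟨n, hn⟩ : (g • (none : Option (α ⊕ B))) ∈ MulAction.orbit N (none : Option (α ⊕ B)) := hstab ▸ Set.mem_univ _
    have hn' : ((n : H) : H) • (none : Option (α ⊕ B)) = g • none := hn
    have hfix : ((n : H)⁻¹ * g).1.1 none = none := by
      show ((n : H)⁻¹ * g) • (none : Option (α ⊕ B)) = none
      rw [mul_smul, ← hn', inv_smul_smul]
    have hmem : (⟨⟨((n : H)⁻¹ * g).1, hfix⟩, ((n : H)⁻¹ * g).2⟩ : H0) ∈ N.comap j := h ▸ Subgroup.mem_top _
    have : (n : H)⁻¹ * g ∈ N := hmem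
    simpa using N.mul_mem n.2 this

end CfsgLib.Spor.HSGraph
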